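import Groth.Agent.AmpleThLib.Embed
import Groth.Agent.ProjGenLib.Twist
import Groth.Agent.EGA2SymLib.CanMap
import Groth.Agent.TwistLib.PtApp

/-!
# Closed immersions of `Proj` into projective space given by `O(n)`
-/

set_option autoImplicit false
set_option linter.style.haveILetI false
universe u

open CategoryTheory CategoryTheory.Limits AlgebraicGeometry TopologicalSpace Opposite HomogeneousLocalization

noncomputable section

namespace ProjEmbLib

variable {R A : Type u} [CommRing R] [CommRing A] [Algebra R A] (𝒜 : ℕ → Submodule R A) [GradedAlgebra 𝒜]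

/-- The structure map to the base. -/
def toBase : Proj 𝒜 ⟶ Spec (CommRingCat.of R) :=
  Proj.toSpecZero 𝒜 ≫ Spec.map (CommRingCat.ofHom (algebraMap R (𝒜 0)))

theorem exists_finite_generators [Algebra.FiniteType R A] (d : ℕ)
    (hgen : Algebra.adjoin R (⋃ i ∈ Finset.Icc 1 d, (𝒜 i : Set A)) = ⊤) :
    ∃ (s : ℕ) (f : Fin s → A) (deg : Fin s → ℕ), (∀ i, 0 < deg i) ∧ (∀ i, deg i ≤ d) ∧
      (∀ i, f i ∈ 𝒜 (deg i)) ∧ Algebra.adjoin R (Set.range f) = ⊤ := by
  classical
  set U : Set A := ⋃ i ∈ Finset.Icc 1 d, (𝒜 i : Set A)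
  have key : ∀ x ∈ Algebra.adjoin R U, ∃ T : Finset A, (T : Set A) ⊆ U ∧ x ∈ Algebra.adjoin R (T : Set A) := by
    intro x hx
    induction hx using Algebra.adjoin_induction with
    | mem y hy => exact ⟨{y}, by simpa using hy, Algebra.subset_adjoin (by simp)⟩
    | algebraMap r => exact ⟨∅, by simp, Subalgebra.algebraMap_mem _ r⟩
    | add y z _ _ hy hz =>
      obtain ⟨T, hT, hyT⟩ := hy
      obtain ⟨T', hT', hzT⟩ := hz
      exact ⟨T ∪ T', by simpa using ⟨hT, hT'⟩, add_mem (Algebra.adjoin_mono (by simp) hyT)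
        (Algebra.adjoin_mono (by simp) hzT)⟩
    | mul y z _ _ hy hz =>
      obtain ⟨T, hT, hyT⟩ := hy
      obtain ⟨T', hT', hzT⟩ := hz
      exact ⟨T ∪ T', by simpa using ⟨hT, hT'⟩, mul_mem (Algebra.adjoin_mono (by simp) hyT)
        (Algebra.adjoin_mono (by simp) hzT)⟩
  obtain ⟨S, hS⟩ := (Algebra.FiniteType.out : (⊤ : Subalgebra R A).FG)
  choose T hT hxT using fun x : S => key x (hgen ▸ Algebra.mem_top)
  let G : Finset A := Finset.univ.biUnion T
  have hG : ∀ y ∈ G, ∃ i, 0 < i ∧ i ≤ d ∧ y ∈ 𝒜 i := fun y hy => by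
    obtain ⟨x, -, hyx⟩ := Finset.mem_biUnion.1 hy
    obtain ⟨i, hi, hyi⟩ := Set.mem_iUnion₂.1 (hT x hyx)
    exact ⟨i, (Finset.mem_Icc.1 hi).1, (Finset.mem_Icc.1 hi).2, hyi⟩
  choose deg hpos hle hdeg using fun i : Fin G.card => hG _ (G.equivFin.symm i).2
  refine ⟨G.card, fun i => G.equivFin.symm i, deg, hpos, hle, hdeg, ?_⟩
  rw [eq_top_iff, ← hS, Algebra.adjoin_le_iff]
  intro x hx
  refine Algebra.adjoin_mono ?_ (hxT ⟨x, hx⟩)
  intro y hy
  exact ⟨G.equivFin ⟨y, Finset.mem_biUnion.2 ⟨⟨x, hx⟩, Finset.mem_univ _, hy⟩⟩, by simp⟩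

variable {s : ℕ} (f : Fin s → A) (deg : Fin s → ℕ) (hdeg : ∀ i, 0 < deg i) (hf : ∀ i, f i ∈ 𝒜 (deg i))
  (hgen : Algebra.adjoin R (Set.range f) = ⊤)

include hdeg hf hgen in
theorem isProper_toBase : IsProper (toBase 𝒜) := by
  classical
  haveI : IsScalarTower R (𝒜 0) A := ⟨fun r c a => smul_mul_assoc r (c : A) a⟩
  haveI : Algebra.FiniteType R A := ⟨⟨Finset.univ.image f, by rw [Finset.coe_image, Finset.coe_univ, Set.image_univ, hgen]⟩⟩
  haveI : Algebra.FiniteType (𝒜 0) A := Algebra.FiniteType.of_restrictScalars_finiteType R (𝒜 0) A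
  have hsurj : Function.Surjective (algebraMap R (𝒜 0)) := by
    intro c
    have h := Groth.Agent.GrDegLib.piece_le 𝒜 f deg hf hgen 0 (1 : Submodule R A) (fun e he => by
      have h0 : ∀ i, e i = 0 := fun i =>
        (mul_eq_zero.1 ((Finset.sum_eq_zero_iff.1 he) i (Finset.mem_univ i))).resolve_right (hdeg i).ne'
      simp only [h0, pow_zero, Finset.prod_const_one]
      exact Submodule.one_le.1 le_rfl) c.2
    obtain ⟨r, hr⟩ := Submodule.mem_one.1 h
    exact ⟨r, Subtype.ext hr⟩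
  haveI : IsClosedImmersion (Spec.map (CommRingCat.ofHom (algebraMap R (𝒜 0)))) :=
    IsClosedImmersion.spec_of_surjective _ hsurj
  haveI : IsProper (Proj.toSpecZero 𝒜) := inferInstance
  exact inferInstanceAs (IsProper (Proj.toSpecZero 𝒜 ≫ Spec.map (CommRingCat.ofHom (algebraMap R (𝒜 0)))))

/-- Global functions from the base on basic opens. -/
theorem appLE_toBase {n : ℕ} {g : A} (hg : g ∈ 𝒜 n) (r : R) (hr : algebraMap R A r ∈ 𝒜 (0 • n)) :
    (toBase 𝒜).appLE ⊤ (Proj.basicOpen 𝒜 g) le_top ((Scheme.ΓSpecIso (CommRingCat.of R)).inv r) =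
      Proj.awayToSection 𝒜 g (Away.mk 𝒜 hg 0 (algebraMap R A r) hr) := by
  have h1 : (Spec.map (CommRingCat.ofHom (algebraMap R (𝒜 0)))).appTop
      ((Scheme.ΓSpecIso (CommRingCat.of R)).inv r) =
      (Scheme.ΓSpecIso (CommRingCat.of (𝒜 0))).inv (algebraMap R (𝒜 0) r) :=
    congr($((Scheme.ΓSpecIso_inv_naturality (CommRingCat.ofHom (algebraMap R (𝒜 0)))).symm) r)
  refine Subtype.ext (funext fun y => HomogeneousLocalization.val_injective _ ?_)
  refine Eq.trans ?_ (ProjectiveSpectrum.Proj.awayToSection_apply 𝒜 g (Away.mk 𝒜 hg 0 (algebraMap R A r) hr) y).symm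
  refine Eq.trans (b := algebraMap A (GrTwist.Loc 𝒜 y.1) (algebraMap R A r)) ?_ ?_
  · have h2 := EGA2SymLib.val_toSpecZero_appTop 𝒜 (algebraMap R (𝒜 0) r) ⟨y.1, trivial⟩
    rw [← h1] at h2
    exact h2
  · rw [HomogeneousLocalization.Away.val_mk, Localization.mk_eq_mk', IsLocalization.map_mk']
    simp only [pow_zero]
    haveI := y.1.isPrime
    exact (IsLocalization.mk'_one (S := GrTwist.Loc 𝒜 y.1) (M := y.1.asHomogeneousIdeal.toIdeal.primeCompl)
      (algebraMap R A r)).symm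

/-- `b/1 = (b/g) (g/1)` on `D₊(g)`. -/
theorem frac_smul {n : ℕ} {g : A} (hg : g ∈ 𝒜 n) {b : A} (hb : b ∈ 𝒜 n) :
    (show Γ(Proj 𝒜, Proj.basicOpen 𝒜 g) from
        Proj.awayToSection 𝒜 g (Away.mk 𝒜 hg 1 b (by rwa [one_smul]))) •
      AmpleLib.res (Twist.twist 𝒜 (n : ℤ)) (le_top : Proj.basicOpen 𝒜 g ≤ ⊤) (Twist.globalOf 𝒜 ⟨g, hg⟩) =
      AmpleLib.res (Twist.twist 𝒜 (n : ℤ)) (le_top : Proj.basicOpen 𝒜 g ≤ ⊤) (Twist.globalOf 𝒜 ⟨b, hb⟩) := by
  classical
  refine TwistLib.sec_ext fun x => ?_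
  rw [TwistLib.val_smul]
  erw [TwistLib.val_res, TwistLib.val_res]
  erw [ProjectiveSpectrum.Proj.awayToSection_apply]
  rw [Away.val_mk, Localization.mk_eq_mk', IsLocalization.map_mk']
  change IsLocalization.mk' (Twist.Loc 𝒜 x.1) b _ * Localization.mk g _ = Localization.mk b _
  rw [← Localization.mk_eq_mk', Localization.mk_mul, Localization.mk_eq_mk_iff, Localization.r_iff_exists]
  exact ⟨1, by simp [mul_comm]⟩

include hdeg hf hgen in
theorem exists_closedImmersion {n : ℕ} (hn : 0 < n) (G t : Finset A) (hG : ∀ b ∈ G, b ∈ 𝒜 n)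
    (ht : ∀ g ∈ t, g ∈ 𝒜 n) (hcov : ∀ x : Proj 𝒜, ∃ g ∈ t, x ∈ Proj.basicOpen 𝒜 g)
    (hloc : ∀ g ∈ t, ∀ (j : ℕ), ∀ z ∈ 𝒜 (j * n), ∃ i : ℕ, z * g ^ i ∈ Submodule.span R (G : Set A) ^ (j + i)) :
    ∃ (N : ℕ) (i : Proj 𝒜 ⟶ CohB1.ProjSpaceOver N (Spec (CommRingCat.of R))), IsClosedImmersion i ∧
      i ≫ pullback.snd (CohB1.ProjSpace.toSpec N (ULift.{u} ℤ)) (specULiftZIsTerminal.from (Spec (CommRingCat.of R))) =
        Proj.toSpecZero 𝒜 ≫ Spec.map (CommRingCat.ofHom (algebraMap R (𝒜 0))) ∧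
      Nonempty (Twist.twist 𝒜 (n : ℤ) ≅
        (Scheme.Modules.pullback i).obj (Twist.twistOver N (Spec (CommRingCat.of R)) 1)) := by
  classical
  have hcov' : ∀ x : Proj 𝒜, ∃ g ∈ 𝒜 n, x ∈ Proj.basicOpen 𝒜 g := fun x =>
    let ⟨g, hg, hx⟩ := hcov x
    ⟨g, ht g hg, hx⟩
  have hM : PicF.IsInvertible (Twist.twist 𝒜 (n : ℤ)) := GrTwistLib.twist_isInvertible_self 𝒜 hcov'
  let F : Finset A := G ∪ t ∪ {0}
  have hF : ∀ b ∈ F, b ∈ 𝒜 n := by
    intro b hb
    simp only [F, Finset.mem_union, Finset.mem_singleton] at hb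
    rcases hb with (hb | hb) | rfl
    exacts [hG b hb, ht b hb, zero_mem _]
  obtain ⟨m, hm⟩ : ∃ m, F.card = m + 1 :=
    ⟨F.card - 1, (Nat.succ_pred_eq_of_pos (Finset.card_pos.mpr ⟨0, by simp [F]⟩)).symm⟩
  let e : Fin (m + 1) → A := fun k => (F.equivFinOfCardEq hm).symm k
  have he : ∀ k, e k ∈ 𝒜 n := fun k => hF _ ((F.equivFinOfCardEq hm).symm k).2
  have he' : ∀ b ∈ F, ∃ k, e k = b := fun b hb => ⟨F.equivFinOfCardEq hm ⟨b, hb⟩, by simp [e]⟩
  let v : Fin (m + 1) → Γ(Twist.twist 𝒜 (n : ℤ), ⊤) := fun k => Twist.globalOf 𝒜 ⟨e k, he k⟩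
  have hgs : ∀ k, TwistLib.genSet hM (v k) = Proj.basicOpen 𝒜 (e k) := fun k =>
    GrTwistLib.genSet_globalOf 𝒜 hM hcov' ⟨e k, he k⟩
  have hvery : RelAmple.IsRelVeryAmplePn (toBase 𝒜) (Twist.twist 𝒜 (n : ℤ)) := by
    refine AmpleThLib.exists_immersion (toBase 𝒜) hM v {k | e k ∈ t} (fun x => ?_)
      (fun k _ => hgs k ▸ Proj.isAffineOpen_basicOpen 𝒜 (e k) (he k) hn) (fun k hk => ?_)
    · obtain ⟨g, hg, hx⟩ := hcov x
      obtain ⟨k, hk⟩ := he' g (by simp [F, hg])
      exact ⟨k, show e k ∈ t by rwa [hk], by rw [hgs, hk]; exact hx⟩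
    · suffices h : ∀ (W : (Proj 𝒜).Opens), W = Proj.basicOpen 𝒜 (e k) →
          Subring.closure (Set.range ((toBase 𝒜).appLE ⊤ W le_top) ∪
            {c | ∃ l, c • AmpleLib.res (Twist.twist 𝒜 (n : ℤ)) (le_top : W ≤ ⊤) (v k) =
              AmpleLib.res (Twist.twist 𝒜 (n : ℤ)) le_top (v l)}) = ⊤ from h _ (hgs k)
      rintro W rfl
      set C := Subring.closure (Set.range ((toBase 𝒜).appLE ⊤ (Proj.basicOpen 𝒜 (e k)) le_top) ∪
        {c | ∃ l, c • AmpleLib.res (Twist.twist 𝒜 (n : ℤ)) (le_top : Proj.basicOpen 𝒜 (e k) ≤ ⊤) (v k) =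
          AmpleLib.res (Twist.twist 𝒜 (n : ℤ)) le_top (v l)})
      let ψ : Away 𝒜 (e k) →+* Γ(Proj 𝒜, Proj.basicOpen 𝒜 (e k)) := (Proj.awayToSection 𝒜 (e k)).hom
      let P := Submodule.span R (G : Set A)
      have hP : P ≤ 𝒜 n := Submodule.span_le.2 fun b hb => hG b hb
      have hPi : ∀ i, P ^ i ≤ 𝒜 (i • n) := fun i =>
        (pow_le_pow_left' hP i).trans (Groth.Agent.GrDegLib.pow_le_piece 𝒜 n i)
      have hconst : ∀ (r : R) (hr : algebraMap R A r ∈ 𝒜 (0 • n)), ψ (Away.mk 𝒜 (he k) 0 _ hr) ∈ C := fun r hr =>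
        Subring.subset_closure (Or.inl ⟨_, appLE_toBase 𝒜 (he k) r hr⟩)
      have hone : ∀ b ∈ P, ∀ hb : b ∈ 𝒜 (1 • n), ψ (Away.mk 𝒜 (he k) 1 b hb) ∈ C := by
        intro b hb
        induction hb using Submodule.span_induction with
        | mem b hb =>
          intro hb'
          obtain ⟨l, hl⟩ := he' b (by simp [F, Finset.mem_coe.1 hb])
          subst hl
          exact Subring.subset_closure (Or.inr ⟨l, frac_smul 𝒜 (he k) (he l)⟩)
        | zero =>
          intro hb'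
          have h0 : Away.mk 𝒜 (he k) 1 0 hb' = 0 := by
            apply HomogeneousLocalization.val_injective
            rw [Away.val_mk, val_zero, Localization.mk_zero]
          rw [h0, map_zero]
          exact zero_mem _
        | add a b ha hb iha ihb =>
          intro hab
          have ha' : a ∈ 𝒜 (1 • n) := by rw [one_smul]; exact hP ha
          have hb' : b ∈ 𝒜 (1 • n) := by rw [one_smul]; exact hP hb
          have h0 : Away.mk 𝒜 (he k) 1 (a + b) hab = Away.mk 𝒜 (he k) 1 a ha' + Away.mk 𝒜 (he k) 1 b hb' := by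
            apply HomogeneousLocalization.val_injective
            rw [val_add, Away.val_mk, Away.val_mk, Away.val_mk, Localization.add_mk_self]
          rw [h0, map_add]
          exact add_mem (iha ha') (ihb hb')
        | smul r a ha iha =>
          intro hra
          have ha' : a ∈ 𝒜 (1 • n) := by rw [one_smul]; exact hP ha
          have hr : algebraMap R A r ∈ 𝒜 (0 • n) := by rw [zero_smul]; exact SetLike.algebraMap_mem_graded 𝒜 r
          have h0 : Away.mk 𝒜 (he k) 1 (r • a) hra =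
              Away.mk 𝒜 (he k) 0 _ hr * Away.mk 𝒜 (he k) 1 a ha' := by
            apply HomogeneousLocalization.val_injective
            rw [val_mul, Away.val_mk, Away.val_mk, Away.val_mk, Localization.mk_mul, Algebra.smul_def]
            congr 1
            exact Subtype.ext (by simp)
          rw [h0, map_mul]
          exact mul_mem (hconst r hr) (iha ha')
      have hpow : ∀ (i : ℕ) (w : A), w ∈ P ^ i → ∀ hw : w ∈ 𝒜 (i • n), ψ (Away.mk 𝒜 (he k) i w hw) ∈ C := by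
        intro i w hw
        induction hw using Submodule.pow_induction_on_left' with
        | algebraMap r => exact hconst r
        | add a b i ha hb iha ihb =>
          intro hab
          have h0 : Away.mk 𝒜 (he k) i (a + b) hab =
              Away.mk 𝒜 (he k) i a (hPi i ha) + Away.mk 𝒜 (he k) i b (hPi i hb) := by
            apply HomogeneousLocalization.val_injective
            rw [val_add, Away.val_mk, Away.val_mk, Away.val_mk, Localization.add_mk_self]
          rw [h0, map_add]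
          exact add_mem (iha _) (ihb _)
        | mem_mul b hb i a ha iha =>
          intro hba
          have hb' : b ∈ 𝒜 (1 • n) := by rw [one_smul]; exact hP hb
          have h0 : Away.mk 𝒜 (he k) i.succ (b * a) hba =
              Away.mk 𝒜 (he k) 1 b hb' * Away.mk 𝒜 (he k) i a (hPi i ha) := by
            apply HomogeneousLocalization.val_injective
            rw [val_mul, Away.val_mk, Away.val_mk, Away.val_mk, Localization.mk_mul]
            congr 1
            exact Subtype.ext (by simp [pow_succ'])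
          rw [h0, map_mul]
          exact mul_mem (hone b hb hb') (iha _)
      refine eq_top_iff.2 fun c _ => ?_
      obtain ⟨α, rfl⟩ : ∃ α, ψ α = c := ⟨(Proj.basicOpenIsoAway 𝒜 (e k) (he k) hn).inv c, by
        have := congr($((Proj.basicOpenIsoAway 𝒜 (e k) (he k) hn).inv_hom_id) c)
        rw [Proj.basicOpenIsoAway_hom] at this
        exact this⟩
      obtain ⟨j, z, hz, rfl⟩ := Away.mk_surjective 𝒜 (he k) α
      obtain ⟨i, hi⟩ := hloc (e k) hk j z (by simpa using hz)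
      have h0 : Away.mk 𝒜 (he k) j z hz = Away.mk 𝒜 (he k) (j + i) (z * e k ^ i) (hPi _ hi) := by
        apply HomogeneousLocalization.val_injective
        rw [Away.val_mk, Away.val_mk, Localization.mk_eq_mk_iff, Localization.r_iff_exists]
        exact ⟨1, by simp [pow_add]; ring⟩
      rw [h0]
      exact hpow _ _ hi _
  obtain ⟨N, i, hi, hiq, hiso⟩ := hvery
  haveI := hi
  haveI := isProper_toBase 𝒜 f deg hdeg hf hgen
  haveI : IsProper i := by
    haveI : IsSeparated (CohB1.ProjSpaceOver.toBase N (Spec (CommRingCat.of R))) :=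
      (ChowLib.isProper_toBase N _).toIsSeparated
    haveI : IsProper (i ≫ CohB1.ProjSpaceOver.toBase N (Spec (CommRingCat.of R))) := by
      change IsProper (i ≫ pullback.snd _ _)
      rw [hiq]
      infer_instance
    exact IsProper.of_comp i (CohB1.ProjSpaceOver.toBase N (Spec (CommRingCat.of R)))
  exact ⟨N, i, IsClosedImmersion.of_isPreimmersion i i.isClosedMap.isClosed_range, hiq, hiso⟩

include hdeg hf hgen in
theorem of_lcm (a : ℕ) (ha : 0 < a) (has : s - 1 ≤ a) :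
    ∃ (N : ℕ) (i : Proj 𝒜 ⟶ CohB1.ProjSpaceOver N (Spec (CommRingCat.of R))), IsClosedImmersion i ∧
      i ≫ pullback.snd (CohB1.ProjSpace.toSpec N (ULift.{u} ℤ)) (specULiftZIsTerminal.from (Spec (CommRingCat.of R))) =
        Proj.toSpecZero 𝒜 ≫ Spec.map (CommRingCat.ofHom (algebraMap R (𝒜 0))) ∧
      Nonempty (Twist.twist 𝒜 ((a * Finset.univ.lcm deg : ℕ) : ℤ) ≅
        (Scheme.Modules.pullback i).obj (Twist.twistOver N (Spec (CommRingCat.of R)) 1)) := by
  classical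
  set n := a * Finset.univ.lcm deg with hn_def
  haveI := ProjGenLib.compactSpace 𝒜 f deg hdeg hf hgen
  have hn : 0 < n := Nat.mul_pos ha (Nat.pos_of_ne_zero (Finset.lcm_ne_zero_iff.2 fun i _ => (hdeg i).ne'))
  obtain ⟨t, ht, hcov⟩ := ProjGenLib.exists_finite_cover 𝒜 (Groth.Agent.GrDegLib.iSup_basicOpen 𝒜 f deg hdeg hf hgen a ha)
  let E : Finset (Fin s → ℕ) :=
    (Fintype.piFinset fun _ : Fin s => Finset.range (n + 1)).filter fun e => ∑ i, e i * deg i = n
  let G : Finset A := E.image fun e => ∏ i, f i ^ e i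
  have hG : ∀ b ∈ G, b ∈ 𝒜 n := fun b hb => by
    obtain ⟨e, he, rfl⟩ := Finset.mem_image.1 hb
    rw [Finset.mem_filter] at he
    exact he.2 ▸ Groth.Agent.GrDegLib.monomial_mem 𝒜 f deg hf (Finsupp.equivFunOnFinite.symm e)
  have hspan : Submodule.span R (G : Set A) = 𝒜 n :=
    le_antisymm (Submodule.span_le.2 fun b hb => hG b hb)
      (Groth.Agent.GrDegLib.piece_le 𝒜 f deg hf hgen n _ fun e he => Submodule.subset_span (Finset.mem_image.2
        ⟨e, Finset.mem_filter.2 ⟨Fintype.mem_piFinset.2 fun i => Finset.mem_range.2 (Nat.lt_succ_of_le (by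
          have h1 : e i * deg i ≤ n := he ▸ Finset.single_le_sum (f := fun i => e i * deg i)
            (fun _ _ => Nat.zero_le _) (Finset.mem_univ i)
          exact (Nat.le_mul_of_pos_right _ (hdeg i)).trans h1)), he⟩, rfl⟩))
  refine exists_closedImmersion 𝒜 f deg hdeg hf hgen hn G t hG ht hcov fun g hg j z hz => ⟨0, ?_⟩
  rw [pow_zero, mul_one, add_zero, hspan, ← Groth.Agent.GrDegLib.mul_lcm_eq_pow 𝒜 f deg hdeg hf hgen a has]
  exact hz

theorem of_degreeOne [Algebra.FiniteType R A] (d : ℕ)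
    (hgen' : Algebra.adjoin R (⋃ i ∈ Finset.Icc 1 d, (𝒜 i : Set A)) = ⊤)
    (hcov : (⨆ g : 𝒜 1, Proj.basicOpen 𝒜 (g : A)) = ⊤) (n : ℕ) (hn : d ≤ n) (hn1 : 0 < n) :
    ∃ (N : ℕ) (i : Proj 𝒜 ⟶ CohB1.ProjSpaceOver N (Spec (CommRingCat.of R))), IsClosedImmersion i ∧
      i ≫ pullback.snd (CohB1.ProjSpace.toSpec N (ULift.{u} ℤ)) (specULiftZIsTerminal.from (Spec (CommRingCat.of R))) =
        Proj.toSpecZero 𝒜 ≫ Spec.map (CommRingCat.ofHom (algebraMap R (𝒜 0))) ∧
      Nonempty (Twist.twist 𝒜 (n : ℤ) ≅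
        (Scheme.Modules.pullback i).obj (Twist.twistOver N (Spec (CommRingCat.of R)) 1)) := by
  classical
  obtain ⟨s, f, deg, hdeg, hle, hf, hgen⟩ := exists_finite_generators 𝒜 d hgen'
  haveI := ProjGenLib.compactSpace 𝒜 f deg hdeg hf hgen
  obtain ⟨t₁, ht₁, hcov₁⟩ := ProjGenLib.exists_finite_cover 𝒜 hcov
  let t : Finset A := t₁.image (· ^ n)
  let G : Finset A := t ∪ ((t₁ ×ˢ (Finset.univ : Finset (Fin s))).image fun p => f p.2 * p.1 ^ (n - deg p.2))
  have hpow : ∀ g ∈ t₁, g ^ n ∈ 𝒜 n := fun g hg => by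
    simpa using SetLike.pow_mem_graded n (ht₁ g hg)
  have ht : ∀ g ∈ t, g ∈ 𝒜 n := fun g hg => by
    obtain ⟨g₁, hg₁, rfl⟩ := Finset.mem_image.1 hg
    exact hpow g₁ hg₁
  have hG : ∀ b ∈ G, b ∈ 𝒜 n := fun b hb => by
    rcases Finset.mem_union.1 hb with hb | hb
    · exact ht b hb
    · obtain ⟨⟨g₁, i⟩, hgi, rfl⟩ := Finset.mem_image.1 hb
      have h := SetLike.mul_mem_graded (hf i) (SetLike.pow_mem_graded (n - deg i) (ht₁ g₁ (Finset.mem_product.1 hgi).1))
      rwa [smul_eq_mul, mul_one, Nat.add_sub_cancel' ((hle i).trans hn)] at h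
  refine exists_closedImmersion 𝒜 f deg hdeg hf hgen hn1 G t hG ht (fun x => ?_) fun g hg j z hz => ?_
  · obtain ⟨g, hg, hx⟩ := hcov₁ x
    exact ⟨g ^ n, Finset.mem_image_of_mem _ hg, by rwa [Proj.basicOpen_pow 𝒜 g n hn1]⟩
  obtain ⟨g₁, hg₁, rfl⟩ := Finset.mem_image.1 hg
  set P := Submodule.span R (G : Set A)
  have hgP : g₁ ^ n ∈ P := Submodule.subset_span (Finset.mem_union_left _ hg)
  let N : Submodule R A :=
    { carrier := {z | ∃ i : ℕ, z * (g₁ ^ n) ^ i ∈ P ^ (j + i)}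
      zero_mem' := ⟨0, by simp⟩
      add_mem' := fun {a b} ⟨i, hi⟩ ⟨i', hi'⟩ => ⟨i + i', by
        have e : (a + b) * (g₁ ^ n) ^ (i + i') =
            a * (g₁ ^ n) ^ i * (g₁ ^ n) ^ i' + b * (g₁ ^ n) ^ i' * (g₁ ^ n) ^ i := by ring
        rw [e, ← add_assoc, pow_add P]
        refine add_mem (Submodule.mul_mem_mul hi (Submodule.pow_mem_pow _ hgP i')) ?_
        rw [← pow_add P, add_assoc, add_comm i, ← add_assoc, pow_add P]
        exact Submodule.mul_mem_mul hi' (Submodule.pow_mem_pow _ hgP i)⟩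
      smul_mem' := fun r a ⟨i, hi⟩ => ⟨i, by rw [smul_mul_assoc]; exact Submodule.smul_mem _ r hi⟩ }
  refine Groth.Agent.GrDegLib.piece_le 𝒜 f deg hf hgen (j * n) N (fun e he => ?_) hz
  have hbig : j ≤ ∑ l, e l := by
    have h1 : j * n ≤ (∑ l, e l) * n := by
      rw [← he, Finset.sum_mul]
      exact Finset.sum_le_sum fun l _ => Nat.mul_le_mul_left _ ((hle l).trans hn)
    exact Nat.le_of_mul_le_mul_right h1 hn1
  refine ⟨∑ l, e l - j, ?_⟩
  rw [Nat.add_sub_cancel' hbig]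
  have hexp : n * (∑ l, e l - j) = ∑ l, (n - deg l) * e l := by
    have h1 : ∑ l, (n - deg l) * e l + ∑ l, e l * deg l = n * ∑ l, e l := by
      rw [← Finset.sum_add_distrib, Finset.mul_sum]
      refine Finset.sum_congr rfl fun l _ => ?_
      rw [mul_comm (e l), ← add_mul, Nat.sub_add_cancel ((hle l).trans hn)]
    rw [Nat.mul_sub, mul_comm n j]
    omega
  rw [← pow_mul, hexp, show g₁ ^ (∑ l, (n - deg l) * e l) = ∏ l, g₁ ^ ((n - deg l) * e l) from
    (Finset.prod_pow_eq_pow_sum _ _ _).symm, ← Finset.prod_mul_distrib]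
  have hsum : ∀ (S : Finset (Fin s)), ∏ l ∈ S, (f l ^ e l * g₁ ^ ((n - deg l) * e l)) ∈ P ^ (∑ l ∈ S, e l) := by
    intro S
    induction S using Finset.induction_on with
    | empty => simpa using Submodule.one_le.1 (le_refl (1 : Submodule R A))
    | insert l S hl ih =>
      rw [Finset.prod_insert hl, Finset.sum_insert hl, pow_add]
      refine Submodule.mul_mem_mul ?_ ih
      rw [pow_mul, ← mul_pow]
      exact Submodule.pow_mem_pow _ (Submodule.subset_span (Finset.mem_union_right _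
        (Finset.mem_image.2 ⟨(g₁, l), Finset.mem_product.2 ⟨hg₁, Finset.mem_univ l⟩, rfl⟩))) _
  exact hsum Finset.univ

end ProjEmbLib
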